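import Groth.Agent.LocFFLib.Basic
import Groth.Agent.NormDimOneLib.Chart
import Groth.Prelude.Def_Curv2
import Mathlib

/-! The normalization of an integral scheme is characterized by being normal and integral birational. -/

set_option autoImplicit false
set_option maxHeartbeats 800000
universe u

noncomputable section

open CategoryTheory AlgebraicGeometry TopologicalSpace

namespace LocFFLib

theorem isIntegrallyClosed_stalk {N : Scheme.{u}} [IsIntegral N] {W : N.Opens} (hW : IsAffineOpen W)
    (hc : IsIntegrallyClosed Γ(N, W)) (x : N) (hx : x ∈ W) : IsIntegrallyClosed (N.presheaf.stalk x) := by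
  haveI : Nonempty W := ⟨⟨x, hx⟩⟩
  let _hA := TopCat.Presheaf.algebra_section_stalk N.presheaf (⟨x, hx⟩ : W)
  haveI := hW.isLocalization_stalk ⟨x, hx⟩
  exact isIntegrallyClosed_of_isLocalization (N.presheaf.stalk x)
    (hW.primeIdealOf ⟨x, hx⟩).asIdeal.primeCompl (Ideal.primeCompl_le_nonZeroDivisors _)

variable (X : Scheme.{u}) [IsIntegral X] [QuasiCompact (X.fromSpecStalk (genericPoint X))]
  [QuasiSeparated (X.fromSpecStalk (genericPoint X))]

instance : IsIntegral (Spec X.functionField) := inferInstance

instance : IsIntegral (Curv2.normalization X) :=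
  inferInstanceAs (IsIntegral (X.fromSpecStalk (genericPoint X)).normalization)

instance : IsIntegralHom (Curv2.normalizationι X) :=
  inferInstanceAs (IsIntegralHom (X.fromSpecStalk (genericPoint X)).fromNormalization)

theorem normalization_isNormal : Pi1.IsNormalScheme (Curv2.normalization X) := fun x => by
  refine ⟨inferInstance, ?_⟩
  obtain ⟨U, hU, hxU, -⟩ := exists_isAffineOpen_mem_and_subset (x := Curv2.normalizationι X x) (U := ⊤) trivial
  haveI : Nonempty (⟨U, hU⟩ : X.affineOpens).1 := ⟨⟨_, hxU⟩⟩
  obtain ⟨ψ, -, -, hc, -⟩ := NormDimOneLib.exists_chart X ⟨U, hU⟩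
  exact isIntegrallyClosed_stalk (hU.preimage (Curv2.normalizationι X)) hc x hxU

theorem normalization_bir : PurBirLib.Bir (Curv2.normalizationι X) := by
  let ι := X.fromSpecStalk (genericPoint X)
  let p : Spec X.functionField := IsLocalRing.closedPoint _
  haveI : Subsingleton (Spec X.functionField) :=
    inferInstanceAs (Subsingleton (PrimeSpectrum X.functionField))
  let t : Spec X.functionField ⟶ Curv2.normalization X := ι.toNormalization
  haveI : IsDominant t := inferInstanceAs (IsDominant ι.toNormalization)
  have ht : t p = genericPoint (Curv2.normalization X) := by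
    refine IsGenericPoint.eq ?_ (genericPoint_spec _)
    show closure {t p} = _
    have : Set.range t = {t p} :=
      Set.eq_singleton_iff_unique_mem.2 ⟨⟨p, rfl⟩, fun _ ⟨q, hq⟩ => hq ▸ congrArg _ (Subsingleton.elim q p)⟩
    rw [← this, t.denseRange.closure_range]
  have hcomp : t ≫ Curv2.normalizationι X = ι := ι.toNormalization_fromNormalization
  have hη : Curv2.normalizationι X (genericPoint (Curv2.normalization X)) = genericPoint X := by
    rw [← ht, ← Scheme.Hom.comp_apply, hcomp]
    exact Scheme.fromSpecStalk_closedPoint
  refine ⟨hη, (ConcreteCategory.isIso_iff_bijective _).2 ?_⟩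
  have hY : IsField (X.presheaf.stalk (Curv2.normalizationι X (genericPoint (Curv2.normalization X)))) := by
    rw [hη]
    exact Field.toIsField X.functionField
  letI := hY.toField
  refine ⟨RingHom.injective ((Curv2.normalizationι X).stalkMap (genericPoint (Curv2.normalization X))).hom, ?_⟩
  suffices H : Function.Surjective ((Curv2.normalizationι X).stalkMap (t p)) by
    have e : ∀ z, z = t p → Function.Surjective ((Curv2.normalizationι X).stalkMap z) := by
      rintro z rfl
      exact H
    exact e _ ht.symm
  intro b
  obtain ⟨a, ha⟩ : ∃ a, (t ≫ Curv2.normalizationι X).stalkMap p a = t.stalkMap p b :=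
    (show Function.Surjective ((t ≫ Curv2.normalizationι X).stalkMap p) by
      rw [hcomp]
      exact ι.stalkMap_surjective p) _
  rw [Scheme.Hom.stalkMap_comp] at ha
  have hN : IsField ((Curv2.normalization X).presheaf.stalk (t p)) := by
    rw [ht]
    exact Field.toIsField (Curv2.normalization X).functionField
  letI := hN.toField
  exact ⟨a, RingHom.injective (t.stalkMap p).hom ha⟩

theorem normalization_char {Y : Scheme.{u}} (f : Y ⟶ X) :
    (∃ e : Y ≅ Curv2.normalization X, e.hom ≫ Curv2.normalizationι X = f) ↔
      Pi1.IsNormalScheme Y ∧ IsIntegralHom f ∧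
        ∃ _ : IrreducibleSpace ↥Y, f.base ⁻¹' {genericPoint X} = {genericPoint Y} ∧
          IsIso (f.stalkMap (genericPoint Y)) := by
  constructor
  · rintro ⟨e, rfl⟩
    obtain ⟨hη, hiso⟩ := normalization_bir X
    refine ⟨fun y => ?_, inferInstance, ?_⟩
    · obtain ⟨hd, hc⟩ := normalization_isNormal X (e.hom y)
      let eq := (asIso (e.hom.stalkMap y)).commRingCatIsoToRingEquiv
      exact ⟨eq.symm.toMulEquiv.isDomain _, IsIntegrallyClosed.of_equiv eq⟩
    · haveI : Nonempty Y := ⟨e.inv (genericPoint (Curv2.normalization X))⟩
      haveI : IsIntegral Y := isIntegral_of_isOpenImmersion e.hom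
      refine ⟨inferInstance, ?_, ?_⟩
      · have he : e.hom (genericPoint Y) = genericPoint (Curv2.normalization X) :=
          genericPoint_eq_of_isOpenImmersion e.hom
        refine Set.eq_singleton_iff_unique_mem.2 ⟨?_, fun z hz => ?_⟩
        · show (e.hom ≫ Curv2.normalizationι X) (genericPoint Y) = genericPoint X
          rw [Scheme.Hom.comp_apply, he, hη]
        · refine e.hom.isOpenEmbedding.injective ?_
          rw [he]
          exact PurBirLib.eq_generic_of_map_generic _ ⟨hη, hiso⟩ hz
      · have he : e.hom (genericPoint Y) = genericPoint (Curv2.normalization X) :=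
          genericPoint_eq_of_isOpenImmersion e.hom
        haveI : IsIso ((Curv2.normalizationι X).stalkMap (e.hom (genericPoint Y))) := by
          rw [he]; exact hiso
        rw [Scheme.Hom.stalkMap_comp]
        exact IsIso.comp_isIso' ‹_› inferInstance
  · rintro ⟨hn, hf, hirr, hpre, hiso⟩
    haveI := hf
    haveI := hiso
    haveI : ∀ y, IsDomain (Y.presheaf.stalk y) := fun y => (hn y).1
    haveI : IsReduced Y := isReduced_of_isReduced_stalk Y
    haveI : IsIntegral Y := isIntegral_of_irreducibleSpace_of_isReduced Y
    have hη : f (genericPoint Y) = genericPoint X := by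
      have : genericPoint Y ∈ f.base ⁻¹' {genericPoint X} := by rw [hpre]; rfl
      exact this
    let ι := X.fromSpecStalk (genericPoint X)
    let s : Spec X.functionField ⟶ Y := Spec.map (inv (f.stalkMap (genericPoint Y)) ≫
      (X.presheaf.stalkCongr (Inseparable.of_eq hη)).hom) ≫ Y.fromSpecStalk (genericPoint Y)
    have hs : ι = s ≫ f := by
      simp only [s, Category.assoc]
      rw [← Scheme.SpecMap_stalkMap_fromSpecStalk, ← Spec.map_comp_assoc]
      rw [← Category.assoc, IsIso.hom_inv_id, Category.id_comp]
      exact (Scheme.SpecMap_stalkSpecializes_fromSpecStalk (specializes_of_eq hη.symm)).symm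
    let u : Curv2.normalization X ⟶ Y := ι.normalizationDesc s f hs
    have hu : u ≫ f = Curv2.normalizationι X := ι.normalizationDesc_comp s f hs
    haveI : IsIntegralHom u := by
      haveI : IsIntegralHom (u ≫ f) := hu ▸ inferInstance
      exact IsIntegralHom.of_comp u f
    obtain ⟨hν, hνiso⟩ := normalization_bir X
    have hug : u (genericPoint (Curv2.normalization X)) = genericPoint Y := by
      have : u (genericPoint (Curv2.normalization X)) ∈ f.base ⁻¹' {genericPoint X} := by
        show f (u _) = genericPoint X
        rw [← Scheme.Hom.comp_apply, hu, hν]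
      rwa [hpre] at this
    haveI : IsIso (f.stalkMap (u (genericPoint (Curv2.normalization X)))) := by rw [hug]; infer_instance
    haveI : IsIso (u.stalkMap (genericPoint (Curv2.normalization X))) := by
      have h1 : IsIso ((u ≫ f).stalkMap (genericPoint (Curv2.normalization X))) := by rw [hu]; exact hνiso
      rw [Scheme.Hom.stalkMap_comp] at h1
      exact @IsIso.of_isIso_comp_left _ _ _ _ _ (f.stalkMap (u (genericPoint (Curv2.normalization X))))
        (u.stalkMap (genericPoint (Curv2.normalization X))) ‹_› h1
    haveI : IsIso u := PurBirLib.isIso_of_isIntegralHom u ⟨hug, inferInstance⟩ (fun y => (hn y).2)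
    exact ⟨(asIso u).symm, by simp [← hu]⟩

end LocFFLib
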