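import Groth.Agent.PurBirLib.Apps
import Groth.Prelude.Def_Pi1
import Mathlib

/-! Local rings inside the function field; normality. -/

set_option autoImplicit false
universe u

noncomputable section

open CategoryTheory AlgebraicGeometry TopologicalSpace

namespace LocFFLib

variable {X : Scheme.{u}} [IsIntegral X]

abbrev pt (X : Scheme.{u}) [IrreducibleSpace X] (x : X) : Spec X.functionField ⟶ Spec (X.presheaf.stalk x) :=
  Spec.map (CommRingCat.ofHom (algebraMap (X.presheaf.stalk x) X.functionField))

theorem pt_fromSpecStalk (x : X) : pt X x ≫ X.fromSpecStalk x = X.fromSpecStalk (genericPoint X) :=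
  Scheme.SpecMap_stalkSpecializes_fromSpecStalk ((genericPoint_spec X).specializes trivial)

instance (x : X) : IsDominant (pt X x) := by
  refine ⟨PrimeSpectrum.denseRange_comap_iff_ker_le_nilRadical _ |>.2 ?_⟩
  exact le_of_eq_of_le ((RingHom.injective_iff_ker_eq_bot _).1
    (IsFractionRing.injective (X.presheaf.stalk x) X.functionField)) bot_le

/-- A ring map between local rings compatible with the function field is unique as a morphism. -/
theorem specMap_eq {Z : Scheme.{u}} [Z.IsSeparated] (x : X) (a b : Spec (X.presheaf.stalk x) ⟶ Z)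
    (h : pt X x ≫ a = pt X x ≫ b) : a = b :=
  ext_of_isDominant (pt X x) h

theorem exists_hom_of_range_le {x y : X}
    (h : (algebraMap (X.presheaf.stalk x) X.functionField).range ≤
      (algebraMap (X.presheaf.stalk y) X.functionField).range) :
    ∃ φ : X.presheaf.stalk x →+* X.presheaf.stalk y,
      (algebraMap (X.presheaf.stalk y) X.functionField).comp φ = algebraMap _ _ := by
  let e := RingEquiv.ofBijective (algebraMap (X.presheaf.stalk y) X.functionField).rangeRestrict
    ⟨fun a b hab => IsFractionRing.injective _ X.functionField (congrArg Subtype.val hab),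
      RingHom.rangeRestrict_surjective _⟩
  refine ⟨e.symm.toRingHom.comp ((Subring.inclusion h).comp (algebraMap (X.presheaf.stalk x) X.functionField).rangeRestrict), ?_⟩
  ext a
  exact congrArg Subtype.val (e.apply_symm_apply _)

theorem specializes_iff [X.IsSeparated] (x y : X) :
    y ⤳ x ↔ (algebraMap (X.presheaf.stalk x) X.functionField).range ≤
      (algebraMap (X.presheaf.stalk y) X.functionField).range := by
  constructor
  · rintro h _ ⟨a, rfl⟩
    refine ⟨X.presheaf.stalkSpecializes h a, ?_⟩
    show X.presheaf.stalkSpecializes _ (X.presheaf.stalkSpecializes h a) = _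
    rw [← CommRingCat.comp_apply, TopCat.Presheaf.stalkSpecializes_comp]
    rfl
  · intro h
    obtain ⟨φ, hφ⟩ := exists_hom_of_range_le h
    have key : Spec.map (CommRingCat.ofHom φ) ≫ X.fromSpecStalk x = X.fromSpecStalk y := by
      refine specMap_eq y _ _ ?_
      have hc : pt X y ≫ Spec.map (CommRingCat.ofHom φ) = pt X x := by
        rw [← Spec.map_comp]
        exact congrArg Spec.map (CommRingCat.hom_ext hφ)
      exact (Category.assoc _ _ _).symm.trans ((congrArg (· ≫ X.fromSpecStalk x) hc).trans
        ((pt_fromSpecStalk x).trans (pt_fromSpecStalk y).symm))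
    have := congrArg (fun g : Spec (X.presheaf.stalk y) ⟶ X => g (IsLocalRing.closedPoint _)) key
    simp only [Scheme.Hom.comp_apply, Scheme.fromSpecStalk_closedPoint] at this
    have hr : y ∈ Set.range (X.fromSpecStalk x) := ⟨_, this⟩
    rwa [Scheme.range_fromSpecStalk] at hr

theorem range_injective [X.IsSeparated] :
    Function.Injective (fun x : X ↦ (algebraMap (X.presheaf.stalk x) X.functionField).range) :=
  fun x y h => ((specializes_iff x y).2 (le_of_eq h)).antisymm ((specializes_iff y x).2 (le_of_eq h.symm)) |>.eq.symm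

/-- Global sections of a normal integral scheme form an integrally closed ring. -/
theorem exists_section_of_integral (hX : Pi1.IsNormalScheme X) (U : X.Opens) [Nonempty U] (q : X.functionField)
    (hq : ((algebraMap Γ(X, U) X.functionField)).IsIntegralElem q) :
    ∃ s : Γ(X, U), algebraMap Γ(X, U) X.functionField s = q := by
  have h : ∀ x : U, ∃ (V : X.Opens) (_ : (x : X) ∈ V) (_ : V ≤ U) (hV : genericPoint X ∈ V) (s : Γ(X, V)),
      X.presheaf.germ V (genericPoint X) hV s = q := fun x => by
    haveI := (hX x.1).2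
    let _hA := TopCat.Presheaf.algebra_section_stalk X.presheaf x
    haveI := functionField_isScalarTower X U x
    have hq' : IsIntegral (X.presheaf.stalk x.1) q := IsIntegral.tower_top (R := Γ(X, U)) hq
    obtain ⟨a, ha⟩ := IsIntegrallyClosed.isIntegral_iff.1 hq'
    obtain ⟨V, hxV, s, rfl⟩ := X.presheaf.exists_germ_eq a
    have hη : genericPoint X ∈ V ⊓ U :=
      ((genericPoint_spec X).mem_open_set_iff (V ⊓ U).2).2 ⟨x.1, trivial, hxV, x.2⟩
    refine ⟨V ⊓ U, ⟨hxV, x.2⟩, inf_le_right, hη, X.presheaf.map (homOfLE inf_le_left).op s, ?_⟩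
    rw [← ha, TopCat.Presheaf.germ_res_apply]
    exact (TopCat.Presheaf.germ_stalkSpecializes_apply X.presheaf hxV
      ((genericPoint_spec X).specializes trivial) s).symm
  choose V hxV hVU hη s hs using h
  obtain ⟨t, ht, -⟩ := X.sheaf.existsUnique_gluing' V U (fun x => homOfLE (hVU x))
    (fun z hz => Opens.mem_iSup.2 ⟨⟨z, hz⟩, hxV ⟨z, hz⟩⟩) s (fun a b => by
      refine germ_injective_of_isIntegral X (genericPoint X)
        (show genericPoint X ∈ V a ⊓ V b from ⟨hη a, hη b⟩) ?_
      show X.presheaf.germ _ _ _ (X.presheaf.map _ (s a)) = X.presheaf.germ _ _ _ (X.presheaf.map _ (s b))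
      rw [TopCat.Presheaf.germ_res_apply, TopCat.Presheaf.germ_res_apply, hs, hs])
  refine ⟨t, ?_⟩
  obtain ⟨x⟩ := ‹Nonempty U›
  have ht' : X.presheaf.map (homOfLE (hVU x)).op t = s x := ht x
  rw [← hs x, ← ht', TopCat.Presheaf.germ_res_apply]
  rfl

theorem isIntegrallyClosed_sections (hX : Pi1.IsNormalScheme X) (U : X.Opens) [Nonempty U] :
    IsIntegrallyClosed Γ(X, U) := by
  haveI : IsDomain Γ(X, U) := inferInstance
  have hinj : Function.Injective (algebraMap Γ(X, U) X.functionField) :=
    X.germToFunctionField_injective U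
  haveI : FaithfulSMul Γ(X, U) X.functionField := (faithfulSMul_iff_algebraMap_injective _ _).2 hinj
  rw [isIntegrallyClosed_iff (FractionRing Γ(X, U))]
  intro q hq
  let j : FractionRing Γ(X, U) →ₐ[Γ(X, U)] X.functionField :=
    IsFractionRing.liftAlgHom (g := Algebra.ofId Γ(X, U) X.functionField) hinj
  obtain ⟨s, hs⟩ := exists_section_of_integral hX U (j q) (hq.map j)
  exact ⟨s, (j : FractionRing Γ(X, U) →+* X.functionField).injective (by simpa using hs)⟩

theorem isNormal_iff :
    Pi1.IsNormalScheme X ↔ ∀ (U : X.Opens) [Nonempty U], IsAffineOpen U → IsIntegrallyClosed Γ(X, U) := by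
  refine ⟨fun h U _ _ => isIntegrallyClosed_sections h U, fun h x => ⟨inferInstance, ?_⟩⟩
  obtain ⟨U, hU, hxU, -⟩ := exists_isAffineOpen_mem_and_subset (x := x) (U := ⊤) trivial
  haveI : Nonempty U := ⟨⟨x, hxU⟩⟩
  haveI := h U hU
  let _hA := TopCat.Presheaf.algebra_section_stalk X.presheaf (⟨x, hxU⟩ : U)
  haveI := hU.isLocalization_stalk ⟨x, hxU⟩
  exact isIntegrallyClosed_of_isLocalization (X.presheaf.stalk x)
    (hU.primeIdealOf ⟨x, hxU⟩).asIdeal.primeCompl (Ideal.primeCompl_le_nonZeroDivisors _)

omit [IsIntegral X] in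
theorem isNormal_of_closed [CompactSpace ↥X]
    (h : ∀ x : X, IsClosed ({x} : Set X) →
      IsDomain (X.presheaf.stalk x) ∧ IsIntegrallyClosed (X.presheaf.stalk x)) :
    Pi1.IsNormalScheme X := fun x => by
  obtain ⟨c, hc, hcl⟩ := (isClosed_closure (s := ({x} : Set X))).exists_closed_singleton
    ⟨x, subset_closure rfl⟩
  obtain ⟨hd, hn⟩ := h c hcl
  obtain ⟨U, hU, hcU, -⟩ := exists_isAffineOpen_mem_and_subset (x := c) (U := ⊤) trivial
  have hxU : x ∈ U := (specializes_iff_mem_closure.2 hc).mem_open U.2 hcU
  let _hA := TopCat.Presheaf.algebra_section_stalk X.presheaf (⟨x, hxU⟩ : U)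
  let _hB := TopCat.Presheaf.algebra_section_stalk X.presheaf (⟨c, hcU⟩ : U)
  haveI := hU.isLocalization_stalk ⟨x, hxU⟩
  haveI := hU.isLocalization_stalk ⟨c, hcU⟩
  have hle : (hU.primeIdealOf ⟨c, hcU⟩).asIdeal.primeCompl ≤ (hU.primeIdealOf ⟨x, hxU⟩).asIdeal.primeCompl := by
    refine fun a ha hax => ha ?_
    have : hU.primeIdealOf ⟨x, hxU⟩ ⤳ hU.primeIdealOf ⟨c, hcU⟩ := by
      refine hU.fromSpec.isOpenEmbedding.toIsInducing.specializes_iff.1 ?_
      erw [hU.fromSpec_primeIdealOf, hU.fromSpec_primeIdealOf]
      exact specializes_iff_mem_closure.2 hc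
    exact (PrimeSpectrum.le_iff_specializes _ _).2 this hax
  letI := IsLocalization.localizationAlgebraOfSubmonoidLe (X.presheaf.stalk c) (X.presheaf.stalk x) _ _ hle
  haveI := IsLocalization.localization_isScalarTower_of_submonoid_le (X.presheaf.stalk c) (X.presheaf.stalk x) _ _ hle
  haveI := IsLocalization.isLocalization_of_submonoid_le (X.presheaf.stalk c) (X.presheaf.stalk x) _ _ hle
  have hnz : (hU.primeIdealOf ⟨x, hxU⟩).asIdeal.primeCompl.map (algebraMap Γ(X, U) (X.presheaf.stalk c)) ≤
      nonZeroDivisors (X.presheaf.stalk c) := by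
    rintro _ ⟨a, ha, rfl⟩
    refine mem_nonZeroDivisors_of_ne_zero fun h0 => ?_
    obtain ⟨⟨m, hm⟩, hm0⟩ := (IsLocalization.map_eq_zero_iff (hU.primeIdealOf ⟨c, hcU⟩).asIdeal.primeCompl
      (X.presheaf.stalk c) a).1 h0
    exact ((hU.primeIdealOf ⟨x, hxU⟩).isPrime.mem_or_mem
      (show m * a ∈ _ by rw [hm0]; exact zero_mem _)).elim (hle hm) ha
  exact ⟨IsLocalization.isDomain_of_le_nonZeroDivisors _ hnz, isIntegrallyClosed_of_isLocalization _ _ hnz⟩

/-- Domination of local rings in the function fields. -/
theorem dominates_iff {Y : Scheme.{u}} [IsIntegral Y] [Y.IsSeparated]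
    (f : X ⟶ Y) (e : f (genericPoint X) = genericPoint Y) (x : X) (y : Y) :
    LocalSubring.range ((Y.presheaf.stalkSpecializes (specializes_of_eq e) ≫
        f.stalkMap (genericPoint X)).hom.comp (algebraMap (Y.presheaf.stalk y) Y.functionField)) ≤
      LocalSubring.range (algebraMap (X.presheaf.stalk x) X.functionField) ↔ y = f x := by
  set ψ : Y.presheaf.stalk y →+* X.functionField := (Y.presheaf.stalkSpecializes (specializes_of_eq e) ≫
        f.stalkMap (genericPoint X)).hom.comp (algebraMap (Y.presheaf.stalk y) Y.functionField) with hψ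
  have hinj : Function.Injective (algebraMap (X.presheaf.stalk x) X.functionField) :=
    IsFractionRing.injective _ _
  constructor
  · rintro ⟨hle, hloc⟩
    let eR := RingEquiv.ofBijective (algebraMap (X.presheaf.stalk x) X.functionField).rangeRestrict
      ⟨fun a b hab => hinj (congrArg Subtype.val hab), RingHom.rangeRestrict_surjective _⟩
    have hle' : ∀ a, ψ a ∈ (algebraMap (X.presheaf.stalk x) X.functionField).range := fun a => by
      have : ψ a ∈ (LocalSubring.range ψ).toSubring := ⟨a, rfl⟩
      exact hle this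
    choose φ₀ hφ₀ using hle'
    let φ : Y.presheaf.stalk y →+* X.presheaf.stalk x :=
      { toFun := φ₀
        map_one' := hinj (by rw [hφ₀, map_one, map_one])
        map_mul' := fun a b => hinj (by rw [hφ₀, map_mul, map_mul, hφ₀, hφ₀])
        map_zero' := hinj (by rw [hφ₀, map_zero, map_zero])
        map_add' := fun a b => hinj (by rw [hφ₀, map_add, map_add, hφ₀, hφ₀]) }
    have hφ : (algebraMap (X.presheaf.stalk x) X.functionField).comp φ = ψ := RingHom.ext hφ₀
    haveI hl : IsLocalHom φ := ⟨fun a ha => by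
      have h1 : IsUnit (Subring.inclusion hle ⟨ψ a, a, rfl⟩) := by
        convert! ha.map ((algebraMap (X.presheaf.stalk x) X.functionField).codRestrict
          (LocalSubring.range (algebraMap (X.presheaf.stalk x) X.functionField)).toSubring
          (fun c => ⟨c, rfl⟩)) using 1
        exact Subtype.ext (hφ₀ a).symm
      have h2 := hloc.map_nonunit _ h1
      obtain ⟨⟨_, ⟨b, rfl⟩⟩, hb⟩ := isUnit_iff_exists_inv.1 h2
      have hb' : ψ a * ψ b = 1 := congrArg Subtype.val hb
      have hinj2 : Function.Injective ψ := by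
        intro p q hpq
        exact IsFractionRing.injective (Y.presheaf.stalk y) Y.functionField
          ((Y.presheaf.stalkSpecializes (specializes_of_eq e) ≫ f.stalkMap (genericPoint X)).hom.injective hpq)
      exact IsUnit.of_mul_eq_one b (hinj2 (by rw [map_mul, hb', map_one]))⟩
    have key : Spec.map (CommRingCat.ofHom φ) ≫ Y.fromSpecStalk y = X.fromSpecStalk x ≫ f := by
      refine specMap_eq x _ _ ?_
      have hc : pt X x ≫ Spec.map (CommRingCat.ofHom φ) =
          Spec.map (f.stalkMap (genericPoint X)) ≫ Spec.map (Y.presheaf.stalkSpecializes (specializes_of_eq e)) ≫ pt Y y := by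
        rw [← Spec.map_comp, ← Spec.map_comp, ← Spec.map_comp]
        exact congrArg Spec.map (CommRingCat.hom_ext hφ)
      refine (Category.assoc _ _ _).symm.trans ((congrArg (· ≫ Y.fromSpecStalk y) hc).trans ?_)
      refine Eq.trans ?_ ((congrArg (· ≫ f) (pt_fromSpecStalk x)).symm.trans (Category.assoc _ _ _))
      refine Eq.trans ?_ (Scheme.SpecMap_stalkMap_fromSpecStalk (f := f))
      refine (Category.assoc _ _ _).trans ?_
      refine congrArg (Spec.map (f.stalkMap (genericPoint X)) ≫ ·) ?_
      refine (Category.assoc _ _ _).trans ?_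
      exact (congrArg (Spec.map (Y.presheaf.stalkSpecializes (specializes_of_eq e)) ≫ ·) (pt_fromSpecStalk y)).trans
        (Scheme.SpecMap_stalkSpecializes_fromSpecStalk _)
    have h3 := congrArg (fun g : Spec (X.presheaf.stalk x) ⟶ Y => g (IsLocalRing.closedPoint _)) key
    simp only [Scheme.Hom.comp_apply, Scheme.fromSpecStalk_closedPoint, Spec_closedPoint] at h3
    rw [Scheme.fromSpecStalk_closedPoint] at h3
    exact h3
  · rintro rfl
    have hcomm : ∀ a, algebraMap (X.presheaf.stalk x) X.functionField (f.stalkMap x a) = ψ a := fun a => by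
      have hx : genericPoint X ⤳ x := (genericPoint_spec X).specializes trivial
      show X.presheaf.stalkSpecializes hx (f.stalkMap x a) =
        f.stalkMap (genericPoint X) (Y.presheaf.stalkSpecializes _ (Y.presheaf.stalkSpecializes _ a))
      rw [← Scheme.Hom.stalkSpecializes_stalkMap_apply f (genericPoint X) x hx a]
      congr 1
      rw [← CommRingCat.comp_apply (f := Y.presheaf.stalkSpecializes _),
        TopCat.Presheaf.stalkSpecializes_comp]
    refine ⟨?_, ⟨?_⟩⟩
    · rintro _ ⟨a, rfl⟩
      exact ⟨f.stalkMap x a, hcomm a⟩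
    · rintro ⟨_, a, rfl⟩ ha
      obtain ⟨⟨_, ⟨b, rfl⟩⟩, hb⟩ := isUnit_iff_exists_inv.1 ha
      have hb' : ψ a * algebraMap (X.presheaf.stalk x) X.functionField b = 1 := congrArg Subtype.val hb
      have hu : IsUnit (f.stalkMap x a) := IsUnit.of_mul_eq_one b (hinj (by rw [map_mul, hcomm, hb', map_one]))
      exact (isUnit_of_map_unit (f.stalkMap x).hom a hu).map
        (ψ.codRestrict (LocalSubring.range ψ).toSubring (fun c => ⟨c, rfl⟩))

end LocFFLib
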